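import Cfsg.Agent.Lib.KnownSimple.TrdegTools
import Cfsg.Agent.Lib.ReflectionsSpinor.ChevFieldCent
import Cfsg.Agent.Lib.Chevalley.TorusCard

/-!
Lang's theorem for Chevalley groups over finite fields, by the elementary transcendence-degree
argument: the generic element `x` of the big cell makes `x⁻¹ a σ(x)` generic again, for every
`a` in the finite group.
-/

set_option autoImplicit false
set_option linter.unusedSectionVars false

namespace CfsgLib.KnownSimple.ChevalleyLang

open Cfsg.Lie CfsgLib.Chevalley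
open CfsgLib.ReflectionsSpinor.ChevField (push push_xG push_mem_group push_nW push_torus push_prodU
  push_injective)

universe u

section params

variable {D : ChevalleyDatum} {A : Aux} {K : Type*} [Field K] {K' : Type*} [Field K']

/-- Parameters along a list of roots, as a function of the root. -/
noncomputable def tList (L : List ℕ) (f : Fin L.length → K) : ℕ → K := fun r =>
  if hr : r ∈ L then f ⟨L.idxOf r, List.idxOf_lt_length_of_mem hr⟩ else 0

theorem tList_getElem {L : List ℕ} (hnd : L.Nodup) (f : Fin L.length → K) (k : Fin L.length) :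
    tList L f L[(k : ℕ)] = f k := by
  rw [tList, dif_pos (List.getElem_mem k.isLt)]
  exact congrArg f (Fin.ext (hnd.idxOf_getElem k.1 k.2))

theorem tList_of_fun (L : List ℕ) (t : ℕ → K) {r : ℕ} (hr : r ∈ L) :
    tList L (fun k => t L[(k : ℕ)]) r = t r := by
  simp only [tList, dif_pos hr, List.getElem_idxOf]

/-- A field element as a unit, `0` being sent to `1`. -/
noncomputable def unitOf (x : K) : Kˣ := by
  classical exact if h : x = 0 then 1 else Units.mk0 x h

theorem unitOf_coe {x : K} (h : x ≠ 0) : ((unitOf x : Kˣ) : K) = x := by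
  classical simp [unitOf, h]

theorem map_unitOf (f : K →+* K') (x : K) : Units.map (f : K →* K') (unitOf x) = unitOf (f x) := by
  classical
  by_cases h : x = 0
  · simp [unitOf, h]
  · refine Units.ext ?_
    rw [unitOf_coe (by simpa using h)]
    simp [unitOf_coe h]

/-- The parameters of a Bruhat cell. -/
abbrev Par (D : ChevalleyDatum) (L : List ℕ) : Type :=
  Fin D.posRoots.length ⊕ Fin D.rank ⊕ Fin L.length

/-- The element `u (n_w t) u'` of a Bruhat cell with given parameters. -/
noncomputable def word (hC : Cert D A) (l : List (Fin D.rank)) (L : List ℕ) (z : Par D L → K) :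
    GL D.Idx K :=
  prodU hC D.posRoots (tList _ fun k => z (Sum.inl k)) *
    (nW hC K l * torusHom D K fun k => unitOf (z (Sum.inr (Sum.inl k)))) *
      prodU hC L (tList L fun k => z (Sum.inr (Sum.inr k)))

theorem comp_tList (f : K →+* K') (L : List ℕ) (g : Fin L.length → K) :
    f ∘ tList L g = tList L fun k => f (g k) := by
  funext r
  simp only [Function.comp_apply, tList]
  split_ifs <;> simp

theorem push_word (hC : Cert D A) (f : K →+* K') (l : List (Fin D.rank)) (L : List ℕ)
    (z : Par D L → K) : push D f (word hC l L z) = word hC l L (f ∘ z) := by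
  simp only [word, map_mul, push_prodU, push_nW, push_torus, comp_tList, map_unitOf]
  rfl

theorem word_mem (h : Full D A) (l : List (Fin D.rank)) (L : List ℕ) (z : Par D L → K) :
    word h.cert l L z ∈ D.group K := by
  have hU : ∀ (L : List ℕ) (t : ℕ → K), prodU h.cert L t ∈ D.group K := fun L t =>
    Subgroup.list_prod_mem _ fun x hx => by
      obtain ⟨r, -, rfl⟩ := List.mem_map.1 hx
      exact xG_mem_group h.cert r _
  exact mul_mem (mul_mem (hU _ _) (mul_mem (monomial_le_group h.cert (nW_mem_monomial h l))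
    (monomial_le_group h.cert (diagonal_le_monomial (torus_mem_diagonal h _))))) (hU _ _)

/-- The entries of an element of a cell are rational in its parameters. -/
theorem entry_word_mem {k : Type*} [Field k] [Algebra k K] (hC : Cert D A)
    (l : List (Fin D.rank)) (L : List ℕ) (z : Par D L → K) (i j : D.Idx) :
    (word hC l L z : Matrix D.Idx D.Idx K) i j ∈ IntermediateField.adjoin k (Set.range z) := by
  set E := IntermediateField.adjoin k (Set.range z)
  let z' : Par D L → E := fun a => ⟨z a, IntermediateField.subset_adjoin k _ ⟨a, rfl⟩⟩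
  have e := push_word hC (algebraMap E K) l L z'
  rw [show (algebraMap E K) ∘ z' = z from rfl] at e
  rw [← e]
  exact ((word hC l L z' : Matrix D.Idx D.Idx E) i j).2

theorem invSet_longest {l : List (Fin D.rank)} {hC : Cert D A}
    (hlong : ∀ r : Fin D.nroots, D.IsPosRoot r → D.IsNegRoot (wPerm hC l r)) :
    invSet D (wPerm hC l) = {r | D.IsPosRoot r} :=
  Set.ext fun r => ⟨fun hr => hr.1, fun hr => ⟨hr, ⟨r, hr.1⟩, rfl, hlong ⟨r, hr.1⟩ hr⟩⟩

/-- The parameters of the big cell are determined up to roots of unity. -/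
theorem pow_eq_of_word_eq (h : Full D A) {N : Fin D.rank → Fin D.rank → ℤ} {d : ℕ}
    (hN : ∀ i k, ∑ j, cartanMat D i j * N j k = if i = k then (d : ℤ) else 0)
    {l : List (Fin D.rank)}
    (hlong : ∀ r : Fin D.nroots, D.IsPosRoot r → D.IsNegRoot (wPerm h.cert l r))
    {z z' : Par D D.posRoots → K} (hz : ∀ i, z i ≠ 0) (hz' : ∀ i, z' i ≠ 0)
    (e : word h.cert l D.posRoots z = word h.cert l D.posRoots z') (i : Par D D.posRoots) :
    z i ^ d = z' i ^ d := by
  obtain ⟨hpw, hset, -⟩ := h.toStd.posList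
  have hcl : IsClosedRoots D {r | r ∈ D.posRoots} := hset ▸ h.toStd.isClosed_pos
  have hnd : D.posRoots.Nodup := hpw.imp fun hab => ne_of_lt hab
  have hU : ∀ t : ℕ → K, prodU h.cert D.posRoots t ∈ D.posUnipotent K := fun t => by
    rw [posUnipotent_eq, ← hset]; exact prodU_mem _ _
  have hM : ∀ c : Fin D.rank → Kˣ, nW h.cert K l * torusHom D K c ∈ D.monomialSubgroup K :=
    fun c => mul_mem (nW_mem_monomial h l) (diagonal_le_monomial (torus_mem_diagonal h c))
  obtain ⟨η, hη⟩ := acts_nW (F := K) h l
  have hA : ∀ c : Fin D.rank → Kˣ, ∃ η', Acts h.cert (nW h.cert K l * torusHom D K c)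
      (wPerm h.cert l) η' := fun c => by
    have := hη.mul (acts_torus h.cert c)
    rw [mul_one] at this
    exact ⟨_, this⟩
  obtain ⟨η₁, h₁⟩ := hA fun k => unitOf (z (Sum.inr (Sum.inl k)))
  obtain ⟨η₂, h₂⟩ := hA fun k => unitOf (z' (Sum.inr (Sum.inl k)))
  have hI : ∀ t : ℕ → K, prodU h.cert D.posRoots t ∈ rootsU D K (invSet D (wPerm h.cert l)) :=
    fun t => by rw [invSet_longest hlong]; exact hU t
  obtain ⟨e1, e2, e3⟩ :=
    canonical_unique h (hU _) (hU _) (hM _) (hM _) h₁ h₂ (hI _) (hI _) e
  have key : ∀ {g g' : Fin D.posRoots.length → K},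
      prodU h.cert D.posRoots (tList _ g) = prodU h.cert D.posRoots (tList _ g') → g = g' := by
    intro g g' hg
    funext k
    have := prodU_injOn h.toStd hpw hcl hg _ (List.getElem_mem k.isLt)
    rwa [tList_getElem hnd, tList_getElem hnd] at this
  rcases i with k | k | k
  · rw [congrFun (key e1) k]
  · have e4 := mul_left_cancel e2
    rw [← div_eq_one, ← map_div, ← MonoidHom.mem_ker, ker_torusHom h, MonoidHom.mem_ker] at e4
    have e5 := congrArg (matPow N) e4
    rw [matPow_comp, map_one, show (fun i k => ∑ j, cartanMat D i j * N j k) =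
      fun i k => if i = k then (d : ℤ) else 0 from funext₂ hN] at e5
    have e6 := congrFun e5 k
    replace e6 : ∏ i, ((unitOf (z (Sum.inr (Sum.inl i))) /
        unitOf (z' (Sum.inr (Sum.inl i)))) : Kˣ) ^ (if i = k then (d : ℤ) else 0) = 1 := e6
    rw [Finset.prod_eq_single k (fun i _ hi => by simp [hi]) (by simp), if_pos rfl, zpow_natCast,
      div_pow, div_eq_one] at e6
    have e7 := congrArg Units.val e6
    rwa [Units.val_pow_eq_pow_val, Units.val_pow_eq_pow_val, unitOf_coe (hz _),
      unitOf_coe (hz' _)] at e7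
  · rw [congrFun (key e3) k]

/-- Every element of the group lies in a cell; the cells of full dimension are the big cell. -/
theorem exists_word (h : Full D A) {l₀ : List (Fin D.rank)}
    (hlong : ∀ r : Fin D.nroots, D.IsPosRoot r → D.IsNegRoot (wPerm h.cert l₀ r))
    {y : GL D.Idx K} (hy : y ∈ D.group K) :
    ∃ (l : List (Fin D.rank)) (L : List ℕ) (z : Par D L → K),
      L.Sublist D.posRoots ∧ y = word h.cert l L z ∧
        (L = D.posRoots → ∃ z' : Par D D.posRoots → K, y = word h.cert l₀ D.posRoots z') := by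
  classical
  obtain ⟨hpw, hset, -⟩ := h.toStd.posList
  obtain ⟨u, hu, n, hn, π, η, hA, u', hu', rfl⟩ := exists_canonical h hy
  obtain ⟨l, t, ht, hnt⟩ := (mem_monomial_iff h).1 hn
  rw [diagonalSubgroup_eq_range h] at ht
  obtain ⟨c, rfl⟩ := ht
  rw [posUnipotent_eq, ← hset] at hu
  obtain ⟨a, -, rfl⟩ := exists_prodU h.toStd hpw (hset ▸ h.toStd.isClosed_pos) hu
  obtain ⟨L, hL⟩ : ∃ L, L = D.posRoots.filter fun r => decide (r ∈ invSet D π) := ⟨_, rfl⟩
  have hLset : {r | r ∈ L} = invSet D π := by
    ext r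
    simp only [hL, Set.mem_ofPred_eq, List.mem_filter, decide_eq_true_eq, and_iff_right_iff_imp]
    intro hr
    exact (Set.ext_iff.1 hset r).2 hr.1
  rw [← hLset] at hu'
  obtain ⟨b, -, rfl⟩ := exists_prodU h.toStd (hL ▸ hpw.filter _)
    (hLset ▸ isClosed_invSet h hA) hu'
  have hprod : ∀ (L : List ℕ) (t : ℕ → K),
      prodU h.cert L (tList L fun k => t L[(k : ℕ)]) = prodU h.cert L t := fun L t => by
    rw [prodU, prodU]
    exact congrArg _ (List.map_congr_left fun r hr => by rw [tList_of_fun L t hr])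
  have huo : ∀ c : Fin D.rank → Kˣ, (fun k => unitOf ((c k : Kˣ) : K)) = c := fun c =>
    funext fun k => Units.ext (unitOf_coe (c k).ne_zero)
  let z : (L : List ℕ) → (Fin D.rank → Kˣ) → Par D L → K := fun L c =>
    Sum.elim (fun k => a D.posRoots[(k : ℕ)])
      (Sum.elim (fun k => ((c k : Kˣ) : K)) fun k => b L[(k : ℕ)])
  have hz : ∀ (m : List (Fin D.rank)) (L : List ℕ) (c : Fin D.rank → Kˣ),
      word h.cert m L (z L c) =
        prodU h.cert D.posRoots a * (nW h.cert K m * torusHom D K c) * prodU h.cert L b := by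
    intro m L c
    simp only [word, z, Sum.elim_inl, Sum.elim_inr, hprod, huo]
  refine ⟨l, L, z L c, hL ▸ List.filter_sublist, by rw [hz, ← hnt], fun hfull => ?_⟩
  have hneg : ∀ r : Fin D.nroots, D.IsPosRoot r → D.IsNegRoot (π r) := fun r hr => by
    obtain ⟨-, s, hs, hs'⟩ : (r : ℕ) ∈ invSet D π := by
      rw [← hLset, hfull, hset]; exact hr
    rwa [← Fin.ext hs]
  obtain ⟨η₀, hη₀⟩ := acts_nW (F := K) h l₀
  have hm : (nW h.cert K l₀)⁻¹ * n ∈ D.monomialSubgroup K :=
    mul_mem (inv_mem (nW_mem_monomial h l₀)) hn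
  obtain ⟨σ, θ, hσ⟩ := exists_acts h hm
  have hperm : π = wPerm h.cert l₀ * σ := by
    have h' := hη₀.mul hσ
    rw [mul_inv_cancel_left] at h'
    exact hA.perm_eq h'
  have hd : (nW h.cert K l₀)⁻¹ * n ∈ D.diagonalSubgroup K := by
    refine mem_diagonal_of_perm h hm hσ fun i => ?_
    refine (h.pos.pos_or_neg (σ (smp h.cert i)).isLt).resolve_right fun hn' => ?_
    set s := σ (smp h.cert i) with hs
    have h1 := hneg (smp h.cert i) (h.simple_pos i.isLt)
    rw [hperm, Equiv.Perm.mul_apply, ← hs] at h1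
    have hp : D.IsPosRoot (ngR h.cert s) := h.neg_isPos hn'
    have h2 := hlong _ hp
    rw [hη₀.neg] at h2
    exact h.pos_not_neg (h.neg_isPos h1) h2
  rw [diagonalSubgroup_eq_range h] at hd
  obtain ⟨c', hc'⟩ := hd
  refine ⟨z D.posRoots c', ?_⟩
  rw [hz, hc', mul_inv_cancel_left, hfull]

end params

section lang

variable {D : ChevalleyDatum} {A : Aux} {F : Type u} [Field F] [Fintype F]

/-- An algebraically closed field with a transcendence basis indexed by the big cell. -/
abbrev Omega (D : ChevalleyDatum) (F : Type u) [Field F] : Type u :=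
  AlgebraicClosure (FractionRing (MvPolynomial (Par D D.posRoots) F))

theorem exists_basis (D : ChevalleyDatum) (F : Type u) [Field F] :
    ∃ v : Par D D.posRoots → Omega D F, IsTranscendenceBasis F v := by
  have : Algebra.IsAlgebraic (MvPolynomial (Par D D.posRoots) F)
      (FractionRing (MvPolynomial (Par D D.posRoots) F)) :=
    IsLocalization.isAlgebraic _ (nonZeroDivisors _)
  exact ⟨_, ((IsTranscendenceBasis.mvPolynomial _ F).algebraMap_comp
    (A := FractionRing (MvPolynomial (Par D D.posRoots) F))).algebraMap_comp⟩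

/-- The Frobenius of an algebraically closed field over a finite field. -/
theorem exists_frob {Ω : Type*} [Field Ω] [Algebra F Ω] [IsAlgClosed Ω] :
    ∃ σ : Ω ≃+* Ω, ∀ x, σ x = x ^ Fintype.card F := by
  obtain ⟨p, hp, n, hpp, hn⟩ := FiniteField.card' F
  haveI := Fact.mk hpp
  have : CharP Ω p := charP_of_injective_algebraMap (algebraMap F Ω).injective p
  have : PerfectRing Ω p := PerfectField.toPerfectRing p
  exact ⟨iterateFrobeniusEquiv Ω p n, fun x => by
    rw [iterateFrobeniusEquiv_apply, iterateFrobenius_def, hn]⟩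

/-- The fixed field of the Frobenius. -/
theorem exists_preimage {Ω : Type*} [Field Ω] [Algebra F Ω] {y : Ω}
    (hy : y ^ Fintype.card F = y) : ∃ x, algebraMap F Ω x = y := by
  classical
  have h1 : 1 < Fintype.card F := Fintype.one_lt_card
  set P : Polynomial Ω := Polynomial.X ^ Fintype.card F - Polynomial.X with hP
  have hP0 : P ≠ 0 := FiniteField.X_pow_card_sub_X_ne_zero Ω h1
  have hroot : ∀ {z : Ω}, z ^ Fintype.card F = z → z ∈ P.roots.toFinset := fun {z} hz => by
    rw [Multiset.mem_toFinset, Polynomial.mem_roots hP0, Polynomial.IsRoot, hP,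
      Polynomial.eval_sub, Polynomial.eval_pow, Polynomial.eval_X, hz, sub_self]
  have hsub : Finset.univ.image (algebraMap F Ω) ⊆ P.roots.toFinset := fun x hx => by
    obtain ⟨k, -, rfl⟩ := Finset.mem_image.1 hx
    exact hroot (by rw [← map_pow, FiniteField.pow_card])
  have hcard : P.roots.toFinset.card ≤ (Finset.univ.image (algebraMap F Ω)).card := by
    rw [Finset.card_image_of_injective _ (algebraMap F Ω).injective, Finset.card_univ]
    refine (Multiset.toFinset_card_le _).trans ((Polynomial.card_roots' P).trans ?_)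
    rw [hP, FiniteField.X_pow_card_sub_X_natDegree_eq Ω h1]
  have := hroot hy
  rw [← Finset.eq_of_subset_of_card_le hsub hcard, Finset.mem_image] at this
  obtain ⟨x, -, hx⟩ := this
  exact ⟨x, hx⟩

variable {Ω : Type u} [Field Ω] [Algebra F Ω] [IsAlgClosed Ω]

theorem push_push {K : Type*} [Field K] {K' : Type*} [Field K'] {K'' : Type*} [Field K'']
    (f : K →+* K') (g : K' →+* K'') (x : GL D.Idx K) :
    push D g (push D f x) = push D (g.comp f) x :=
  Units.ext (by ext i j; rfl)

/-- `x⁻¹ a σ(x)` is generic with `x`. -/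
theorem exists_generic (h : Full D A) {N : Fin D.rank → Fin D.rank → ℤ} {d : ℕ} (hd : 0 < d)
    (hN : ∀ i k, ∑ j, cartanMat D i j * N j k = if i = k then (d : ℤ) else 0)
    {l₀ : List (Fin D.rank)}
    (hlong : ∀ r : Fin D.nroots, D.IsPosRoot r → D.IsNegRoot (wPerm h.cert l₀ r))
    {σ : Ω ≃+* Ω} (hσ : ∀ x, σ x = x ^ Fintype.card F)
    {v : Par D D.posRoots → Ω} (hv : IsTranscendenceBasis F v)
    {a : GL D.Idx F} (ha : a ∈ D.group F) :
    ∃ z : Par D D.posRoots → Ω, IsTranscendenceBasis F z ∧
      word h.cert l₀ D.posRoots z = (word h.cert l₀ D.posRoots v)⁻¹ *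
        push D (algebraMap F Ω) a * push D σ.toRingHom (word h.cert l₀ D.posRoots v) := by
  classical
  set q := Fintype.card F with hq
  set x := word h.cert l₀ D.posRoots v with hx
  set a' := push D (algebraMap F Ω) a with ha'
  set S := push D σ.toRingHom with hS
  set y := x⁻¹ * a' * S x with hy
  set L : Set Ω := Set.range fun p : D.Idx × D.Idx => (y : Matrix D.Idx D.Idx Ω) p.1 p.2 with hLdef
  set E := IntermediateField.adjoin F L with hE
  have hSe : ∀ (X : GL D.Idx Ω) (i j : D.Idx),
      (S X : Matrix D.Idx D.Idx Ω) i j = (X : Matrix D.Idx D.Idx Ω) i j ^ q := fun X i j => hσ _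
  have hSa : S a' = a' := Units.ext (by
    ext i j
    rw [hSe]
    show algebraMap F Ω _ ^ q = algebraMap F Ω _
    rw [← map_pow, hq, FiniteField.pow_card])
  have hv0 := hv.1.ne_zero
  have halg : ∀ i, IsAlgebraic E (v i) := by
    intro i
    refine IsAlgebraic.of_pow hd (TrdegTools.isAlgebraic_of_finite_images ?_)
    let X : (Ω →ₐ[E] Ω) → GL D.Idx Ω := fun τ => word h.cert l₀ D.posRoots (τ ∘ v)
    have hfac : Function.FactorsThrough (fun τ : Ω →ₐ[E] Ω => τ (v i ^ d)) X := fun τ τ' e => by
      show τ (v i ^ d) = τ' (v i ^ d)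
      rw [map_pow, map_pow]
      exact pow_eq_of_word_eq h hN hlong (z := τ ∘ v) (z' := τ' ∘ v)
        (fun j => by simpa using hv0 j) (fun j => by simpa using hv0 j) e i
    have hfin : (Set.range X).Finite := by
      obtain ⟨m, hm0, hm⟩ : ∃ m, 0 < m ∧ a' ^ m = 1 :=
        ⟨orderOf a, orderOf_pos a, by rw [ha', ← map_pow, pow_orderOf_eq_one, map_one]⟩
      have h1m : 1 < q ^ m := Nat.one_lt_pow hm0.ne' Fintype.one_lt_card
      have hT : {t : Ω | t ^ (q ^ m) = t}.Finite := by
        refine Set.Finite.subset (Polynomial.finite_setOfPred_isRoot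
          (FiniteField.X_pow_card_sub_X_ne_zero Ω h1m)) fun t ht => ?_
        simp only [Set.mem_ofPred_eq] at ht
        simp [ht]
      have hG : {M : GL D.Idx Ω | ∀ i j, (M : Matrix D.Idx D.Idx Ω) i j ^ (q ^ m) =
          (M : Matrix D.Idx D.Idx Ω) i j}.Finite :=
        (Set.Finite.pi' fun _ : D.Idx => Set.Finite.pi' fun _ : D.Idx => hT).preimage
          (f := fun (M : GL D.Idx Ω) (i j : D.Idx) => (M : Matrix D.Idx D.Idx Ω) i j)
          fun M _ M' _ e => Units.val_injective (Matrix.ext fun i j => congrFun (congrFun e i) j)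
      refine (hG.image fun M => M * x).subset ?_
      rintro _ ⟨τ, rfl⟩
      refine ⟨X τ * x⁻¹, fun i j => ?_, inv_mul_cancel_right _ _⟩
      set T := push D (τ : Ω →+* Ω) with hT'
      have hTa : T a' = a' := Units.ext (by
        ext i j
        show τ (algebraMap F Ω _) = algebraMap F Ω _
        rw [IsScalarTower.algebraMap_apply F E Ω, AlgHom.commutes])
      have hTy : T y = y := Units.ext (by
        ext i j
        exact τ.commutes ⟨(y : Matrix D.Idx D.Idx Ω) i j,
          IntermediateField.subset_adjoin F L ⟨(i, j), rfl⟩⟩)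
      have hTS : T (S x) = S (T x) := Units.ext (by
        ext i j
        rw [hSe]
        show τ ((S x : Matrix D.Idx D.Idx Ω) i j) = _
        rw [hSe, map_pow]
        rfl)
      have hXx : X τ = T x := (push_word h.cert (τ : Ω →+* Ω) l₀ D.posRoots v).symm
      have e1 : S (X τ) = a'⁻¹ * (X τ) * y := by
        rw [hXx]
        have e0 : (T x)⁻¹ * T a' * T (S x) = y := by
          rw [← map_inv, ← map_mul, ← map_mul]
          exact hTy
        rw [hTa, hTS] at e0
        rw [← e0]; group
      have e2 : S x = a'⁻¹ * x * y := by rw [hy]; group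
      have e3 : ∀ n : ℕ, (⇑S)^[n] (X τ * x⁻¹) = (a' ^ n)⁻¹ * (X τ * x⁻¹) * a' ^ n := by
        intro n
        induction n with
        | zero => simp
        | succ n ih =>
          rw [Function.iterate_succ_apply', ih, map_mul, map_mul, map_inv, map_pow, hSa, map_mul,
            map_inv, e1, e2, pow_succ']
          group
      have e4 : ∀ (n : ℕ) (M : GL D.Idx Ω) (i j : D.Idx), ((⇑S)^[n] M : Matrix D.Idx D.Idx Ω) i j =
          (M : Matrix D.Idx D.Idx Ω) i j ^ (q ^ n) := by
        intro n M i j
        induction n with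
        | zero => simp
        | succ n ih => rw [Function.iterate_succ_apply', hSe, ih, ← pow_mul, pow_succ]
      rw [← e4 m, e3, hm]
      simp
    refine (hfin.image (Function.extend X (fun τ : Ω →ₐ[E] Ω => τ (v i ^ d)) fun _ => 0)).subset ?_
    rintro _ ⟨τ, rfl⟩
    exact ⟨X τ, ⟨τ, rfl⟩, hfac.extend_apply _ τ⟩
  have hygrp : y ∈ D.group Ω := by
    refine mul_mem (mul_mem (inv_mem (word_mem h _ _ v)) ?_) ?_
    · exact push_mem_group h.cert _ ha
    · exact push_mem_group h.cert _ (word_mem h _ _ v)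
  have hLsub : ∀ {l : List (Fin D.rank)} {L' : List ℕ} (z : Par D L' → Ω),
      y = word h.cert l L' z → L ⊆ IntermediateField.adjoin F (Set.range z) := by
    rintro l L' z e _ ⟨p, rfl⟩
    simp only [e]
    exact entry_word_mem h.cert l L' z p.1 p.2
  obtain ⟨l, L', z, hsub, hz, hbig⟩ := exists_word h hlong hygrp
  have hlen := (TrdegTools.basis_of_generates hv L z (hLsub z hz) halg).1
  simp only [Par, Nat.card_sum, Nat.card_fin] at hlen
  obtain ⟨z', hz'⟩ := hbig (hsub.eq_of_length_le (by omega))
  exact ⟨z', (TrdegTools.basis_of_generates hv L z' (hLsub z' hz') halg).2 le_rfl, hz'.symm⟩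

/-- Lang's theorem: an element of the finite group is `g⁻¹ σ(g)`. -/
theorem exists_lang (h : Full D A) {N : Fin D.rank → Fin D.rank → ℤ} {d : ℕ} (hd : 0 < d)
    (hN : ∀ i k, ∑ j, cartanMat D i j * N j k = if i = k then (d : ℤ) else 0)
    {σ : Omega D F ≃+* Omega D F} (hσ : ∀ x, σ x = x ^ Fintype.card F)
    {a : GL D.Idx F} (ha : a ∈ D.group F) :
    ∃ g ∈ D.group (Omega D F),
      g⁻¹ * push D σ.toRingHom g = push D (algebraMap F (Omega D F)) a := by
  obtain ⟨v, hv⟩ := exists_basis D F
  obtain ⟨l₀, hlong⟩ := exists_longest h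
  set S := push D σ.toRingHom
  have key : ∀ {b : GL D.Idx F}, b ∈ D.group F → ∃ X ∈ D.group (Omega D F),
      word h.cert l₀ D.posRoots v = X⁻¹ * push D (algebraMap F (Omega D F)) b * S X := by
    intro b hb
    obtain ⟨z, hz, e⟩ := exists_generic h hd hN hlong hσ hv hb
    obtain ⟨τ, hτ⟩ := TrdegTools.exists_algHom_of_basis hv hz.1
    let e' : Omega D F ≃ₐ[F] Omega D F :=
      (AlgEquiv.ofBijective τ (TrdegTools.bijective_of_basis hz τ hτ)).symm
    let T := push D (e' : Omega D F →+* Omega D F)
    have hez : (e' : Omega D F →+* Omega D F) ∘ z = v := funext fun i => by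
      show e' (z i) = v i
      rw [← hτ i]
      exact AlgEquiv.symm_apply_apply _ _
    have e2 := congrArg T e
    rw [map_mul, map_mul, map_inv, push_word, hez] at e2
    refine ⟨T (word h.cert l₀ D.posRoots v), push_mem_group h.cert _ (word_mem h _ _ v), ?_⟩
    refine e2.trans ?_
    congr 1
    · congr 1
      exact Units.ext (by ext i j; exact e'.commutes _)
    · exact Units.ext (by
        ext i j
        show e' (σ _) = σ (e' _)
        rw [hσ, hσ, map_pow])
  obtain ⟨Xa, hXa, ea⟩ := key ha
  obtain ⟨X₁, hX₁, e₁⟩ := key (b := 1) (one_mem _)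
  rw [map_one, mul_one] at e₁
  refine ⟨X₁ * Xa⁻¹, mul_mem hX₁ (inv_mem hXa), ?_⟩
  rw [map_mul, map_inv]
  calc (X₁ * Xa⁻¹)⁻¹ * (S X₁ * (S Xa)⁻¹) = Xa * (X₁⁻¹ * S X₁) * (S Xa)⁻¹ := by group
    _ = _ := by rw [← e₁, ea]; group

end lang

end CfsgLib.KnownSimple.ChevalleyLang
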