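import Mathlib
import Cfsg.Agent.Lib.ClassicalLinear.Sylow

/-!
Sylow `r`-subgroups of `GL_n(q)` and `SL_n(q)` for primes `r > n` not dividing `q` are homocyclic.
-/

set_option autoImplicit false
set_option linter.unusedSectionVars false

namespace CfsgLib.KnownSimple.HomocyclicSylow

open Finset

/-- The exponent of the homocyclic Sylow subgroup. -/
noncomputable def cycExp (q r : ℕ) : ℕ :=
  padicValNat r ((Polynomial.cyclotomic (orderOf (q : ZMod r)) ℤ).eval (q : ℤ)).natAbs

variable {q r : ℕ} [hr : Fact r.Prime]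

lemma cast_pow_sub_one_eq_zero_iff (hq : 1 ≤ q) (i : ℕ) :
    r ∣ q ^ i - 1 ↔ orderOf (q : ZMod r) ∣ i := by
  rw [orderOf_dvd_iff_pow_eq_one, ← ZMod.natCast_eq_zero_iff,
    Nat.cast_sub (Nat.one_le_pow _ _ hq), sub_eq_zero]
  simp

lemma order_pos (hrq : ¬ r ∣ q) : 0 < orderOf (q : ZMod r) :=
  orderOf_pos_iff.2 (isOfFinOrder_iff_pow_eq_one.2 ⟨r - 1, Nat.sub_pos_of_lt hr.out.one_lt,
    ZMod.pow_card_sub_one_eq_one (by rwa [Ne, ZMod.natCast_eq_zero_iff])⟩)

lemma valuation_order (hq : 2 ≤ q) (hrq : ¬ r ∣ q) :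
    (q ^ orderOf (q : ZMod r) - 1).factorization r = cycExp q r := by
  set e := orderOf (q : ZMod r) with he
  have he0 : 0 < e := order_pos hrq
  let c : ℕ → ℕ := fun d => ((Polynomial.cyclotomic d ℤ).eval (q : ℤ)).natAbs
  have hprod : ∀ m, 0 < m → q ^ m - 1 = ∏ d ∈ m.divisors, c d := by
    intro m hm
    have h := congrArg (Polynomial.eval (q : ℤ)) (Polynomial.prod_cyclotomic_eq_X_pow_sub_one hm ℤ)
    simp only [Polynomial.eval_prod, Polynomial.eval_sub, Polynomial.eval_pow, Polynomial.eval_X,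
      Polynomial.eval_one] at h
    have h2 := congrArg Int.natAbs h
    rw [← Int.natAbsHom_apply, map_prod, ← Nat.cast_pow, ← Nat.cast_one,
      ← Nat.cast_sub (Nat.one_le_pow _ _ (by omega)), Int.natAbs_natCast] at h2
    exact h2.symm
  have hne : ∀ m, 0 < m → q ^ m - 1 ≠ 0 := fun m hm => by
    have := Nat.one_lt_pow hm.ne' (show 1 < q by omega)
    omega
  have hc0 : ∀ d ∈ e.divisors, c d ≠ 0 := fun d hd h0 => hne e he0 (by
    rw [hprod e he0]; exact prod_eq_zero hd h0)
  show _ = padicValNat r (c e)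
  rw [hprod e he0, Nat.factorization_prod hc0, Finsupp.finsetSum_apply,
    sum_eq_single_of_mem e (Nat.mem_divisors_self e he0.ne'), Nat.factorization_def _ hr.out]
  intro d hd hde
  refine Nat.factorization_eq_zero_of_not_dvd fun hdvd => ?_
  have hd0 : 0 < d := Nat.pos_of_mem_divisors hd
  have h1 : r ∣ q ^ d - 1 := by
    rw [hprod d hd0]
    exact hdvd.trans (dvd_prod_of_mem _ (Nat.mem_divisors_self d hd0.ne'))
  have h2 := (cast_pow_sub_one_eq_zero_iff (by omega) d).1 h1
  exact hde (Nat.dvd_antisymm (Nat.dvd_of_mem_divisors hd) h2)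

lemma valuation_pow (hq : 2 ≤ q) (hrq : ¬ r ∣ q) {i : ℕ} (hi : 0 < i) (hir : ¬ r ∣ i) :
    (q ^ i - 1).factorization r =
      if orderOf (q : ZMod r) ∣ i then cycExp q r else 0 := by
  split_ifs with h
  · obtain ⟨j, rfl⟩ := h
    set e := orderOf (q : ZMod r) with he
    have he0 : 0 < e := order_pos hrq
    have hjr : ¬ r ∣ j := fun h => hir (dvd_mul_of_dvd_right h e)
    have hgeom : q ^ (e * j) - 1 = (q ^ e - 1) * ∑ l ∈ range j, (q ^ e) ^ l := by
      have h1 := geom_sum_mul_add (q ^ e - 1) j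
      rw [Nat.sub_add_cancel (Nat.one_le_pow _ _ (by omega))] at h1
      rw [pow_mul, ← h1, Nat.add_sub_cancel, mul_comm]
    have hs : ¬ r ∣ ∑ l ∈ range j, (q ^ e) ^ l := by
      rw [← ZMod.natCast_eq_zero_iff]
      push_cast
      simp only [he, pow_orderOf_eq_one, one_pow, sum_const, card_range, nsmul_one]
      rw [ZMod.natCast_eq_zero_iff]
      exact hjr
    have h0 : q ^ e - 1 ≠ 0 := by
      have := Nat.one_lt_pow he0.ne' (show 1 < q by omega); omega
    rw [hgeom, Nat.factorization_mul h0 (fun h => hs (by rw [h]; exact dvd_zero r)),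
      Finsupp.add_apply, valuation_order hq hrq, Nat.factorization_eq_zero_of_not_dvd hs, add_zero]
  · exact Nat.factorization_eq_zero_of_not_dvd fun hd =>
      h ((cast_pow_sub_one_eq_zero_iff (by omega) i).1 hd)

variable {F : Type*} [Field F] [Fintype F]

/-- The `r`-part of `|GL_n(q)|`. -/
theorem valuation_GL (hqF : Fintype.card F = q) {n : ℕ} (hrn : n < r) (hrq : ¬ r ∣ q) :
    (Nat.card (GL (Fin n) F)).factorization r = n / orderOf (q : ZMod r) * cycExp q r := by
  classical
  have hq : 2 ≤ q := hqF ▸ Fintype.one_lt_card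
  rw [CfsgLib.ClassicalLinear.card_GL_eq_pow_mul, Fintype.card_fin, hqF]
  have hne : ∀ i ∈ range n, q ^ (i + 1) - 1 ≠ 0 := fun i _ => by
    have := Nat.one_lt_pow (show i + 1 ≠ 0 by omega) (show 1 < q by omega); omega
  rw [Nat.factorization_mul (pow_ne_zero _ (by omega)) (prod_ne_zero_iff.2 hne), Finsupp.add_apply,
    Nat.factorization_eq_zero_of_not_dvd (fun h => hrq (hr.out.dvd_of_dvd_pow h)), zero_add,
    Nat.factorization_prod hne, Finsupp.finsetSum_apply]
  rw [sum_congr rfl fun i hi => valuation_pow hq hrq (Nat.succ_pos i)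
    (Nat.not_dvd_of_pos_of_lt (Nat.succ_pos i) (by have := mem_range.1 hi; omega))]
  rw [← sum_filter, sum_const, smul_eq_mul]
  congr 1
  rw [← Nat.Ioc_filter_dvd_card_eq_div]
  refine card_bij' (fun i _ => i + 1) (fun i _ => i - 1) ?_ ?_ ?_ ?_ <;>
    intro i hi <;> simp only [mem_filter, mem_range, mem_Ioc] at hi ⊢
  · exact ⟨by omega, hi.2⟩
  · exact ⟨by omega, by rw [Nat.succ_eq_add_one, Nat.sub_add_cancel hi.1.1]; exact hi.2⟩
  · omega
  · omega

/-- An element of order `N` in a finite field. -/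
lemma exists_hom {K : Type*} [Field K] [Finite K] {N : ℕ} (hN : N ∣ Nat.card Kˣ) :
    ∃ z : Multiplicative (ZMod N) →* Kˣ, Function.Injective z := by
  obtain ⟨g, hg⟩ := IsCyclic.exists_ofOrder_eq_natCard (α := Kˣ)
  have hζ : orderOf (g ^ (Nat.card Kˣ / N)) = N := by
    rw [← hg] at hN ⊢
    exact orderOf_pow_orderOf_div (orderOf_pos g).ne' hN
  rw [← hζ, ← Nat.card_zpowers]
  exact ⟨(Subgroup.subtype _).comp (zmodCyclicMulEquiv inferInstance).toMonoidHom,
    Subtype.val_injective.comp (MulEquiv.injective _)⟩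

/-- A homocyclic `r`-subgroup of full order gives the isomorphism type of any Sylow subgroup. -/
lemma sylow_equiv {G M : Type*} [Group G] [Finite G] [Group M] (Φ : M →* G)
    (hΦ : Function.Injective Φ) (hM : Nat.card M = r ^ (Nat.card G).factorization r)
    (P : Sylow r G) : Nonempty (↥(P : Subgroup G) ≃* M) := by
  have hc : Nat.card Φ.range = r ^ (Nat.card G).factorization r :=
    (Nat.card_congr (MonoidHom.ofInjective hΦ).toEquiv.symm).trans hM
  exact ⟨(P.equiv (Sylow.ofCard Φ.range hc)).trans (MonoidHom.ofInjective hΦ).symm⟩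

lemma card_model (m : ℕ) (a : ℕ) :
    Nat.card (Fin m → Multiplicative (ZMod (r ^ a))) = r ^ (m * a) := by
  rw [Nat.card_pi, prod_const, card_univ, Fintype.card_fin, Nat.card_congr Multiplicative.toAdd,
    Nat.card_zmod, ← pow_mul, mul_comm]

/-- The block torus. -/
theorem exists_torus (hqF : Fintype.card F = q) {n m : ℕ} (hrq : ¬ r ∣ q)
    (hm : orderOf (q : ZMod r) * m ≤ n) :
    ∃ Φ : (Fin m → Multiplicative (ZMod (r ^ cycExp q r))) →* GL (Fin n) F,
      Function.Injective Φ := by
  classical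
  have hq : 2 ≤ q := hqF ▸ Fintype.one_lt_card
  set e := orderOf (q : ZMod r) with he
  have : NeZero e := ⟨(order_pos hrq).ne'⟩
  have := Fact.mk (CharP.char_is_prime F (ringChar F))
  let K := FiniteField.Extension F (ringChar F) e
  have : Finite K := Module.finite_of_finite F
  have hK : Nat.card K = q ^ e := by
    rw [FiniteField.natCard_extension, Nat.card_eq_fintype_card, hqF]
  have hN : r ^ cycExp q r ∣ Nat.card Kˣ := by
    rw [Nat.card_units, hK, ← valuation_order hq hrq]
    exact Nat.ordProj_dvd _ _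
  obtain ⟨z, hz⟩ := exists_hom hN
  have hfr : Module.finrank F K = e := by
    have h := Module.natCard_eq_pow_finrank (K := F) (V := K)
    rw [hK, Nat.card_eq_fintype_card, hqF] at h
    exact (Nat.pow_right_injective hq h).symm
  let A := (Fin m → K) × (Fin (n - e * m) → F)
  have hA : Module.finrank F A = n := by
    simp only [A, Module.finrank_prod, Module.finrank_pi_fintype, hfr, Module.finrank_self,
      sum_const, card_univ, Fintype.card_fin, smul_eq_mul, mul_one]
    rw [mul_comm m e]
    omega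
  let b : Module.Basis (Fin n) F A := Module.finBasisOfFinrankEq F A hA
  let h : (Fin m → Multiplicative (ZMod (r ^ cycExp q r))) →* A :=
    { toFun := fun f => (fun i => (z (f i) : K), 1)
      map_one' := Prod.ext (funext fun i => by simp) rfl
      map_mul' := fun f g => Prod.ext (funext fun i => by
        show ((z (f i * g i) : Kˣ) : K) = (z (f i) : K) * (z (g i) : K)
        rw [map_mul, Units.val_mul]) (one_mul 1).symm }
  refine ⟨(Units.map (Algebra.leftMulMatrix b).toRingHom.toMonoidHom).comp h.toHomUnits,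
    fun f g hfg => ?_⟩
  have h1 : h f = h g := Algebra.leftMulMatrix_injective b (congrArg Units.val hfg)
  funext i
  exact hz (Units.ext (congrFun (congrArg Prod.fst h1) i))

/-- The diagonal torus of determinant one. -/
theorem exists_torus_one (hqF : Fintype.card F = q) {n : ℕ} (h1 : orderOf (q : ZMod r) = 1) :
    ∃ Φ : (Fin n → Multiplicative (ZMod (r ^ cycExp q r))) →*
        Matrix.SpecialLinearGroup (Fin (n + 1)) F, Function.Injective Φ := by
  classical
  have hq : 2 ≤ q := hqF ▸ Fintype.one_lt_card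
  have hrq : ¬ r ∣ q := fun h => by
    rw [(ZMod.natCast_eq_zero_iff q r).2 h, orderOf_zero] at h1
    omega
  have hN : r ^ cycExp q r ∣ Nat.card Fˣ := by
    rw [Nat.card_units, Nat.card_eq_fintype_card, hqF, ← valuation_order hq hrq, h1, pow_one]
    exact Nat.ordProj_dvd _ _
  obtain ⟨z, hz⟩ := exists_hom hN
  let d : (Fin n → Multiplicative (ZMod (r ^ cycExp q r))) → Fin (n + 1) → F := fun f =>
    Fin.snoc (fun i => (z (f i) : F)) (((∏ i, z (f i))⁻¹ : Fˣ) : F)
  have hd : ∀ f, ∏ i, d f i = 1 := fun f => by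
    rw [Fin.prod_univ_castSucc]
    simp only [d, Fin.snoc_castSucc, Fin.snoc_last]
    rw [← Units.coe_prod, ← Units.val_mul, mul_inv_cancel, Units.val_one]
  refine ⟨MonoidHom.mk' (fun f => ⟨Matrix.diagonal (d f), by rw [Matrix.det_diagonal, hd]⟩)
    fun f g => Subtype.ext ?_, fun f g hfg => ?_⟩
  · show Matrix.diagonal _ = Matrix.diagonal _ * Matrix.diagonal _
    rw [Matrix.diagonal_mul_diagonal]
    refine congrArg _ (funext fun i => ?_)
    refine Fin.lastCases ?_ (fun i => ?_) i
    · simp only [d, Fin.snoc_last, Pi.mul_apply, map_mul, Finset.prod_mul_distrib, mul_inv,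
        Units.val_mul]
    · simp only [d, Fin.snoc_castSucc, Pi.mul_apply, map_mul, Units.val_mul]
  · funext i
    have h := congrFun (Matrix.diagonal_injective (congrArg Subtype.val hfg)) i.castSucc
    simp only [d, Fin.snoc_castSucc] at h
    exact hz (Units.ext h)

end CfsgLib.KnownSimple.HomocyclicSylow
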