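import Cfsg.Agent.Lib.Twisted.WeylGroups
import Cfsg.Agent.Lib.Twisted.TorusCounts
import Cfsg.Agent.Lib.TwistedOrder.Instances
import Cfsg.Agent.Lib.InvCentralizers.SteinbergChar
import Cfsg.Agent.Lib.CharTheory.FullDefect

/-!
A twisted group of relative rank two has an irreducible character of full degree at the
characteristic prime, the Steinberg character, which does not vanish on an element whose order
involves a prime dividing no proper parabolic subgroup. Hence such a prime divides no centraliser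
of an element of order the characteristic prime. Applied to ²F₄(q).
-/

set_option autoImplicit false
set_option linter.unusedSectionVars false
set_option linter.style.haveILetI false

namespace CfsgLib.KnownSimple.FixedParabolic

open Cfsg.Lie
open CfsgLib.Chevalley (Aux Full Acts rootsU invSet)
open CfsgLib.Twisted (FixedPts OrbitData)
open CfsgLib.BNPair
open CfsgLib.InvCentralizers (SteinbergChar.steinberg SteinbergChar.steinberg_isIrr
  SteinbergChar.steinberg_one SteinbergChar.smul_eq_iff)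

section general

variable {G : Type*} [Group G] {P : Cfsg.BNPair G}

/-- A parabolic subgroup on one letter consists of two cells. -/
theorem mem_parabolic_singleton {s : G} (hs : s ∈ P.S) {g : G} :
    g ∈ P.parabolic {s} ↔ g ∈ P.B ∨ g ∈ cell P s := by
  constructor
  · intro hg
    obtain ⟨l, hl, hgl⟩ := (mem_parabolic_iff (Set.singleton_subset_iff.2 hs)).1 hg
    have key : ∀ (k : ℕ), cell P (s ^ k) = (P.B : Set G) ∨ cell P (s ^ k) = cell P s := by
      intro k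
      induction k using Nat.strong_induction_on with
      | _ k ih =>
        match k with
        | 0 => exact Or.inl (mem_cell_of_mem_B (by rw [pow_zero]; exact P.B.one_mem))
        | 1 => exact Or.inr (by rw [pow_one])
        | k + 2 =>
          have e : cell P (s ^ (k + 2)) = cell P (s ^ k) := by
            rw [pow_succ', pow_succ']
            exact cell_eq_of_agree (agree_s_s hs (Subgroup.pow_mem _ (s_mem_N hs) _))
          rw [e]
          exact ih k (by omega)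
    have e : l.prod = s ^ l.length := List.prod_eq_pow_card l s fun x hx => hl x hx
    rw [e] at hgl
    rcases key l.length with h | h <;> rw [h] at hgl
    · exact Or.inl hgl
    · exact Or.inr hgl
  · rintro (hg | hg)
    · exact B_le_parabolic _ hg
    · exact cell_subset (B_le_parabolic _) (subset_parabolic _ (Set.mem_singleton s)) hg

theorem notMem_cell_of_mem_B {s : G} (hs : s ∈ P.S) {g : G} (hg : g ∈ P.B) : g ∉ cell P s := by
  intro hc
  refine s_not_mem hs ?_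
  have e : cell P s = (P.B : Set G) := (cell_eq_of_mem hc).symm.trans (mem_cell_of_mem_B hg)
  rw [← SetLike.mem_coe, ← e]
  exact self_mem_cell s

theorem card_parabolic_singleton [Finite G] {s : G} (hs : s ∈ P.S) :
    Nat.card (P.parabolic {s}) = Nat.card P.B + Nat.card (cell P s) := by
  have e : (P.parabolic {s} : Set G) = (P.B : Set G) ∪ cell P s :=
    Set.ext fun g => mem_parabolic_singleton hs
  have hd : Disjoint (P.B : Set G) (cell P s) :=
    Set.disjoint_left.2 fun g hg => notMem_cell_of_mem_B hs hg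
  calc Nat.card (P.parabolic {s}) = Set.ncard (P.parabolic {s} : Set G) :=
        (Nat.card_coe_set_eq _).trans rfl
    _ = _ := by
      rw [e, Set.ncard_union_eq hd (Set.toFinite _) (Set.toFinite _), ← Nat.card_coe_set_eq,
        ← Nat.card_coe_set_eq]
      rfl

/-- With two letters, the alternating sum does not vanish at `x` if its order divides no proper
parabolic subgroup. -/
theorem steinberg_ne_zero [DecidableEq G] [Finite G] {s t : G} (hst : s ≠ t) (hS : {s, t} = P.S) {r : ℕ}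
    (hs : ¬ r ∣ Nat.card (P.parabolic {s})) (ht : ¬ r ∣ Nat.card (P.parabolic {t})) {x : G}
    (hx : r ∣ orderOf x) : SteinbergChar.steinberg P {s, t} x ≠ 0 := by
  have hfix : ∀ K : Finset G, K ⊆ {s, t} → K ≠ {s, t} →
      Cfsg.fixedPointCharacter (P.parabolic (↑K : Set G)) x = 0 := by
    intro K hK hne
    have hsub : (↑K : Set G) ⊆ {s} ∨ (↑K : Set G) ⊆ {t} := by
      by_contra hcon
      simp only [not_or, Set.not_subset] at hcon
      obtain ⟨⟨a, ha, has⟩, b, hb, hbt⟩ := hcon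
      refine hne (Finset.Subset.antisymm hK ?_)
      have hat : a = t := by
        rcases Finset.mem_insert.1 (hK ha) with h | h
        · exact absurd h has
        · exact Finset.mem_singleton.1 h
      have hbs : b = s := by
        rcases Finset.mem_insert.1 (hK hb) with h | h
        · exact h
        · exact absurd (Finset.mem_singleton.1 h) hbt
      intro y hy
      rcases Finset.mem_insert.1 hy with rfl | h
      · exact hbs ▸ hb
      · rw [Finset.mem_singleton.1 h]; exact hat ▸ ha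
    have hdvd : ¬ r ∣ Nat.card (P.parabolic (↑K : Set G)) := fun hr => by
      have hle : ∀ {J : Set G}, (↑K : Set G) ⊆ J → P.parabolic (↑K : Set G) ≤ P.parabolic J :=
        fun hJ => sup_le_sup_left (Subgroup.closure_mono hJ) _
      rcases hsub with h | h
      · exact hs (hr.trans (Subgroup.card_dvd_of_le (hle h)))
      · exact ht (hr.trans (Subgroup.card_dvd_of_le (hle h)))
    rw [Cfsg.fixedPointCharacter, Nat.cast_eq_zero, Nat.card_eq_zero]
    refine Or.inl ⟨fun ⟨p, hp⟩ => hdvd ?_⟩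
    obtain ⟨g, rfl⟩ := QuotientGroup.mk_surjective p
    rw [MulAction.mem_fixedBy, SteinbergChar.smul_eq_iff] at hp
    refine hx.trans ?_
    have e : orderOf (g⁻¹ * x * g) = orderOf x := by
      have := MulEquiv.orderOf_eq (MulAut.conj g⁻¹) x
      simpa [MulAut.conj_apply] using this
    rw [← e, ← Subgroup.orderOf_mk (H := P.parabolic (↑K : Set G)) _ hp]
    exact orderOf_dvd_natCard _
  have htop : P.parabolic (↑({s, t} : Finset G) : Set G) = ⊤ := by
    rw [Finset.coe_pair, hS, eq_top_iff, ← P.sup_eq_top]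
    refine sup_le le_sup_left ?_
    rw [← P.closure_sup]
    exact sup_le le_sup_right (inf_le_left.trans le_sup_left)
  haveI : Subsingleton (G ⧸ (⊤ : Subgroup G)) := QuotientGroup.subsingleton_quotient_top
  rw [SteinbergChar.steinberg, Finset.sum_eq_single ({s, t} : Finset G)]
  · rw [htop, Cfsg.fixedPointCharacter]
    refine mul_ne_zero (pow_ne_zero _ (by norm_num)) (Nat.cast_ne_zero.2 ?_)
    rw [Nat.card_eq_one_iff_unique.2 ⟨inferInstance,
      ⟨⟨QuotientGroup.mk 1, Subsingleton.elim (α := G ⧸ (⊤ : Subgroup G)) _ _⟩⟩⟩]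
    exact one_ne_zero
  · intro K hK hne
    rw [hfix K (Finset.mem_powerset.1 hK) hne, mul_zero]
  · exact fun h => absurd (Finset.mem_powerset_self _) h

end general

section fixed

variable {D : ChevalleyDatum} {A : Aux} {F : Type*} [Field F] {h : Full D A}
  {ρ : Equiv.Perm (Fin D.nroots)} {φ : GL D.Idx F → GL D.Idx F} {G : Subgroup (GL D.Idx F)}
  {Js : Set (Set (Fin D.rank))}

theorem mem_B_iff (hG : FixedPts h ρ φ G) (hJ : OrbitData h ρ G Js) {g : G} :
    g ∈ (hG.bnPair hJ).B ↔ (g : GL D.Idx F) ∈ D.borelSubgroup F :=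
  ⟨fun hg => hg.1, fun hg => ⟨hg, g.2⟩⟩

theorem mem_N_iff (hG : FixedPts h ρ φ G) (hJ : OrbitData h ρ G Js) {g : G} :
    g ∈ (hG.bnPair hJ).N ↔ (g : GL D.Idx F) ∈ D.monomialSubgroup F :=
  ⟨fun hg => hg.1, fun hg => ⟨hg, g.2⟩⟩

/-- `|B¹| = |U¹| |H¹|`. -/
theorem card_B (hG : FixedPts h ρ φ G) (hJ : OrbitData h ρ G Js) :
    Nat.card (hG.bnPair hJ).B =
      Nat.card ↥(G ⊓ D.posUnipotent F) * Nat.card ↥(G ⊓ D.diagonalSubgroup F) := by
  rw [← Nat.card_prod]
  symm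
  refine Nat.card_eq_of_bijective (fun p => ⟨⟨(p.1 : GL D.Idx F) * p.2,
    mul_mem p.1.2.1 p.2.2.1⟩, (mem_B_iff hG hJ).2
      (mul_mem (Subgroup.mem_sup_left p.1.2.2) (Subgroup.mem_sup_right p.2.2.2))⟩) ⟨?_, ?_⟩
  · rintro ⟨⟨u, hu⟩, ⟨t, ht⟩⟩ ⟨⟨u', hu'⟩, ⟨t', ht'⟩⟩ e
    have e' : u * t = u' * t' := congrArg (fun z : (hG.bnPair hJ).B => ((z : G) : GL D.Idx F)) e
    have h1 : u'⁻¹ * u = t' * t⁻¹ := by
      rw [eq_mul_inv_iff_mul_eq, mul_assoc, e']; group
    have h2 := CfsgLib.Chevalley.eq_one_of_mem_pos_diagonal h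
      (mul_mem (inv_mem hu'.2) hu.2) (h1 ▸ mul_mem ht'.2 (inv_mem ht.2))
    obtain rfl : u' = u := inv_mul_eq_one.1 h2
    obtain rfl : t' = t := (mul_left_cancel e').symm
    rfl
  · rintro ⟨⟨b, hb⟩, hbB⟩
    obtain ⟨u, t, hu, huU, ht, htH, rfl⟩ := hG.borel_decomp hb hbB.1
    exact ⟨(⟨u, hu, huU⟩, ⟨t, ht, htH⟩), rfl⟩

/-- The degree of the Steinberg character. -/
theorem index_eq [Finite F] (hG : FixedPts h ρ φ G) (hJ : OrbitData h ρ G Js) :
    ((hG.bnPair hJ).N.subgroupOf (hG.bnPair hJ).B).index = Nat.card ↥(G ⊓ D.posUnipotent F) := by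
  have e : Nat.card ((hG.bnPair hJ).N.subgroupOf (hG.bnPair hJ).B) =
      Nat.card ↥(G ⊓ D.diagonalSubgroup F) := by
    refine Nat.card_eq_of_bijective (fun b => ⟨((b.1 : G) : GL D.Idx F), (b.1 : G).2, ?_⟩) ⟨?_, ?_⟩
    · rw [← CfsgLib.Chevalley.borel_inf_monomial h]
      exact ⟨(mem_B_iff hG hJ).1 b.1.2, (mem_N_iff hG hJ).1 (Subgroup.mem_subgroupOf.1 b.2)⟩
    · intro a b hab
      exact Subtype.ext (Subtype.ext (Subtype.ext
        (congrArg (fun z : ↥(G ⊓ D.diagonalSubgroup F) => (z : GL D.Idx F)) hab)))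
    · rintro ⟨t, ht, htH⟩
      exact ⟨⟨⟨⟨t, ht⟩, (mem_B_iff hG hJ).2 (Subgroup.mem_sup_right htH)⟩, Subgroup.mem_subgroupOf.2
        ((mem_N_iff hG hJ).2 (CfsgLib.Chevalley.diagonal_le_monomial htH))⟩, rfl⟩
  refine mul_left_cancel₀ (Nat.card_pos (α := ↥(G ⊓ D.diagonalSubgroup F))).ne' ?_
  rw [← e, Subgroup.card_mul_index, card_B hG hJ, e, mul_comm]

/-- The cell of a representative: `|B¹ s B¹| = |B¹| |U¹ ∩ U_σ|`. -/
theorem card_cell (hG : FixedPts h ρ φ G) (hJ : OrbitData h ρ G Js) {s : G}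
    (hs : s ∈ (hG.bnPair hJ).S) {σ : Equiv.Perm (Fin D.nroots)} {η : Fin D.nroots → F}
    (hA : Acts h.cert (s : GL D.Idx F) σ η) :
    Nat.card (cell (hG.bnPair hJ) s) =
      Nat.card (hG.bnPair hJ).B * Nat.card ↥(G ⊓ rootsU D F (invSet D σ)) := by
  have hsN : (s : GL D.Idx F) ∈ D.monomialSubgroup F := (mem_N_iff hG hJ).1 (s_mem_N hs)
  have hUB : ∀ v : ↥(G ⊓ rootsU D F (invSet D σ)),
      (⟨v, v.2.1⟩ : G) ∈ (hG.bnPair hJ).B := fun v => (mem_B_iff hG hJ).2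
    (Subgroup.mem_sup_left (CfsgLib.Chevalley.rootsU_mono (T := {r | D.IsPosRoot r})
      (fun r hr => hr.1) v.2.2))
  rw [← Nat.card_prod]
  symm
  refine Nat.card_eq_of_bijective (fun p => ⟨(p.1 : G) * s * ⟨p.2, p.2.2.1⟩,
    mem_cell.2 ⟨_, p.1.2, _, hUB p.2, rfl⟩⟩) ⟨?_, ?_⟩
  · rintro ⟨b, v⟩ ⟨b', v'⟩ e
    have e' : ((b : G) : GL D.Idx F) * s * v = ((b' : G) : GL D.Idx F) * s * v' :=
      congrArg (fun z : cell (hG.bnPair hJ) s => ((z : G) : GL D.Idx F)) e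
    have e1 : ((b' : G) : GL D.Idx F)⁻¹ * (b : G) = (s : GL D.Idx F) * (v' * (v : GL D.Idx F)⁻¹) *
        (s : GL D.Idx F)⁻¹ := by
      calc ((b' : G) : GL D.Idx F)⁻¹ * (b : G) =
          ((b' : G) : GL D.Idx F)⁻¹ * ((b : G) * s * v) * (v : GL D.Idx F)⁻¹ * (s : GL D.Idx F)⁻¹ := by
            group
        _ = _ := by rw [e']; group
    have h1 : ((b' : G) : GL D.Idx F)⁻¹ * (b : G) ∈ D.borelSubgroup F ⊓ D.negUnipotent F :=
      ⟨Subgroup.mul_mem _ (Subgroup.inv_mem _ ((mem_B_iff hG hJ).1 b'.2)) ((mem_B_iff hG hJ).1 b.2), e1 ▸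
        (hA.conj_rootsU (T := {r | D.IsNegRoot r}) (fun r hr => by
          obtain ⟨-, q, hq, hneg⟩ := hr
          rw [show r = q from Fin.ext hq.symm]
          exact hneg) _ (Subgroup.mul_mem _ v'.2.2 (Subgroup.inv_mem _ v.2.2)) : _)⟩
    rw [CfsgLib.Chevalley.borel_inf_negUnipotent h, Subgroup.mem_bot] at h1
    obtain rfl : b' = b := Subtype.ext (Subtype.ext (inv_mul_eq_one.1 h1))
    have e2 : (v : GL D.Idx F) = v' := mul_left_cancel e'
    rw [Subtype.ext e2]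
  · rintro ⟨g, hg⟩
    obtain ⟨u, n, v, hu, huU, hn, hnN, hv, hvU, e, π, θ, hB, hvI⟩ := hG.exists_form g.2
    have hu' : (⟨u, hu⟩ : G) ∈ (hG.bnPair hJ).B := (mem_B_iff hG hJ).2 (Subgroup.mem_sup_left huU)
    have hv' : (⟨v, hv⟩ : G) ∈ (hG.bnPair hJ).B := (mem_B_iff hG hJ).2 (Subgroup.mem_sup_left hvU)
    have hn' : (⟨n, hn⟩ : G) ∈ (hG.bnPair hJ).N := (mem_N_iff hG hJ).2 hnN
    have hcn : g ∈ cell (hG.bnPair hJ) ⟨n, hn⟩ := mem_cell.2 ⟨_, hu', _, hv', Subtype.ext e⟩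
    have hag := agree_of_mem_cell (s_mem_N hs) hn' hg hcn
    have ht : (s : GL D.Idx F)⁻¹ * n ∈ D.diagonalSubgroup F := by
      rw [← CfsgLib.Chevalley.borel_inf_monomial h]
      exact ⟨(mem_B_iff hG hJ).1 hag, Subgroup.mul_mem _ (Subgroup.inv_mem _ hsN) hnN⟩
    obtain ⟨c, hc⟩ : ∃ c, CfsgLib.Chevalley.torusHom D F c = (s : GL D.Idx F)⁻¹ * n := by
      rwa [CfsgLib.Chevalley.diagonalSubgroup_eq_range h] at ht
    have hπ : π = σ := by
      have h2 := hA.mul (CfsgLib.Chevalley.acts_torus h.cert c)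
      rw [hc, mul_inv_cancel_left, mul_one] at h2
      exact hB.perm_eq h2
    subst hπ
    refine ⟨(⟨⟨u, hu⟩ * (⟨n, hn⟩ * s⁻¹), mul_mem hu' ((mem_B_iff hG hJ).2
      (Subgroup.mem_sup_right ?_))⟩, ⟨v, hv, hvI⟩), Subtype.ext (Subtype.ext ?_)⟩
    · show n * (s : GL D.Idx F)⁻¹ ∈ D.diagonalSubgroup F
      have := CfsgLib.Chevalley.monomial_conj_diagonal h hsN ht
      rwa [show (s : GL D.Idx F) * ((s : GL D.Idx F)⁻¹ * n) * (s : GL D.Idx F)⁻¹ =
        n * (s : GL D.Idx F)⁻¹ by group] at this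
    · show u * (n * (s : GL D.Idx F)⁻¹) * s * v = (g : GL D.Idx F)
      rw [e]; group

theorem card_parabolic_rep [Finite F] (hG : FixedPts h ρ φ G) (hJ : OrbitData h ρ G Js) {s : G}
    (hs : s ∈ (hG.bnPair hJ).S) {σ : Equiv.Perm (Fin D.nroots)} {η : Fin D.nroots → F}
    (hA : Acts h.cert (s : GL D.Idx F) σ η) :
    Nat.card ((hG.bnPair hJ).parabolic {s}) =
      Nat.card (hG.bnPair hJ).B * (1 + Nat.card ↥(G ⊓ rootsU D F (invSet D σ))) := by
  rw [card_parabolic_singleton hs, card_cell hG hJ hs hA]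
  ring

/-- An element of `G ∩ N` reversing all positive roots conjugates `B¹` to meet it in `H¹`. -/
theorem longest_inter (hG : FixedPts h ρ φ G) (hJ : OrbitData h ρ G Js) {n : GL D.Idx F}
    (hn : n ∈ G) (hnN : n ∈ D.monomialSubgroup F) {σ : Equiv.Perm (Fin D.nroots)}
    {η : Fin D.nroots → F} (hA : Acts h.cert n σ η)
    (hneg : ∀ r : Fin D.nroots, D.IsPosRoot r → D.IsNegRoot (σ r)) :
    ∃ w ∈ (hG.bnPair hJ).N, ∀ b ∈ (hG.bnPair hJ).B,
      w⁻¹ * b * w ∈ (hG.bnPair hJ).B → b ∈ (hG.bnPair hJ).N := by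
  refine ⟨⟨n, hn⟩, (mem_N_iff hG hJ).2 hnN, fun b hb hb' => (mem_N_iff hG hJ).2 ?_⟩
  have hb'' : n⁻¹ * (b : GL D.Idx F) * n ∈ D.borelSubgroup F := (mem_B_iff hG hJ).1 hb'
  obtain ⟨u, hu, t, ht, e⟩ := (CfsgLib.Chevalley.mem_borel_iff h).1 hb''
  refine CfsgLib.Chevalley.diagonal_le_monomial (D := D) (F := F) ?_
  rw [← CfsgLib.Chevalley.borel_inf_negBorel h]
  refine ⟨(mem_B_iff hG hJ).1 hb, ?_⟩
  have e' : (b : GL D.Idx F) = (n * u * n⁻¹) * (n * t * n⁻¹) := by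
    rw [show (n * u * n⁻¹) * (n * t * n⁻¹) = n * (u * t) * n⁻¹ by group, ← e]; group
  show (b : GL D.Idx F) ∈ D.negUnipotent F ⊔ D.diagonalSubgroup F
  rw [e']
  exact Subgroup.mul_mem _
    (Subgroup.mem_sup_left (hA.conj_rootsU (S := {r | D.IsPosRoot r})
      (T := {r | D.IsNegRoot r}) (fun s hs => hneg s hs) u hu))
    (Subgroup.mem_sup_right (CfsgLib.Chevalley.monomial_conj_diagonal h hnN ht))

/-- The centraliser statement. -/
theorem not_dvd_orderOf_of_commute [Finite F] (hG : FixedPts h ρ φ G) (hJ : OrbitData h ρ G Js)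
    (hH : ∃ w ∈ (hG.bnPair hJ).N, ∀ b ∈ (hG.bnPair hJ).B,
      w⁻¹ * b * w ∈ (hG.bnPair hJ).B → b ∈ (hG.bnPair hJ).N)
    {s t : G} (hst : s ≠ t) (hS : {s, t} = (hG.bnPair hJ).S) {p k r : ℕ} (hp : p.Prime)
    (hr : r.Prime) (hpr : p ≠ r) (hU : Nat.card ↥(G ⊓ D.posUnipotent F) = p ^ k)
    (hG' : ¬ p ^ (k + 1) ∣ Nat.card G)
    (hs : ¬ r ∣ Nat.card ((hG.bnPair hJ).parabolic {s}))
    (ht : ¬ r ∣ Nat.card ((hG.bnPair hJ).parabolic {t}))
    {a b : G} (ha : orderOf a = p) (hab : Commute a b) : ¬ r ∣ orderOf b := by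
  classical
  intro hb
  haveI := Fintype.ofFinite G
  set b' := b ^ (orderOf b / r) with hb'
  have hob : orderOf b' = r := orderOf_pow_orderOf_div (orderOf_pos b).ne' hb
  have hcop : (orderOf a).Coprime (orderOf b') := by
    rw [ha, hob]; exact (Nat.coprime_primes hp hr).2 hpr
  have ho : orderOf (a * b') = p * r := by
    rw [(hab.pow_right _).orderOf_mul_eq_mul_orderOf_of_coprime hcop, ha, hob]
  have hSf : (↑({s, t} : Finset G) : Set G) = (hG.bnPair hJ).S := by rw [Finset.coe_pair, hS]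
  refine steinberg_ne_zero hst hS hs ht (x := a * b') (ho ▸ dvd_mul_left r p)
    (CfsgLib.CharTheory.IsIrrCharacter.eq_zero_of_fullDegree
      (SteinbergChar.steinberg_isIrr hSf hH) hp hG'
      (SteinbergChar.steinberg_one hSf hH) ?_ (ho ▸ dvd_mul_right p r))
  rw [index_eq hG hJ, hU]

end fixed

end CfsgLib.KnownSimple.FixedParabolic

namespace CfsgLib.KnownSimple.ReeFourCentralizer

open Cfsg.Lie
open CfsgLib.Chevalley (Acts wPerm rootsU invSet invs mem_invs)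
open CfsgLib.Twisted (fullF4 isoF4 f4Twist nodeSet nodeSets aF4 bF4)
open CfsgLib.TwistedOrder (dataF4 TwistData)

theorem weylF4_data :
    (decide (∀ r : Fin chevF4.nroots, chevF4.IsPosRoot r → chevF4.IsNegRoot (((aF4 * bF4) ^ 4) r)) &&
      decide ((Finset.univ.filter fun r : Fin chevF4.nroots =>
        chevF4.IsPosRoot r ∧ chevF4.IsNegRoot (aF4 r)).card = 2) &&
      decide ((Finset.univ.filter fun r : Fin chevF4.nroots =>
        chevF4.IsPosRoot r ∧ chevF4.IsNegRoot (bF4 r)).card = 4)) = true := by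
  decide +kernel

variable {K : Type*} [Field K] [Fintype K] {m : ℕ} (hK : Fintype.card K = 2 ^ (2 * m + 1))
include hK

theorem card_inf_invSet {σ : Equiv.Perm (Fin chevF4.nroots)} {l : List (Fin chevF4.rank)}
    (hl : wPerm fullF4.cert l = σ) {n : GL chevF4.Idx K} (hn : n ∈ twistedF4 K (2 ^ m))
    (hnN : n ∈ chevF4.monomialSubgroup K) {η : Fin chevF4.nroots → K}
    (hA : Acts fullF4.cert n σ η) :
    Nat.card ↥(twistedF4 K (2 ^ m) ⊓ rootsU chevF4 K (invSet chevF4 σ)) =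
      (2 ^ (2 * m + 1)) ^ ((invs σ).card / 2) := by
  have T := dataF4 hK
  have hfix := CfsgLib.Twisted.f4Fixed_ok
  simp only [Bool.and_eq_true, List.all_eq_true, List.mem_range, decide_eq_true_eq, beq_iff_eq] at hfix
  obtain ⟨⟨⟨⟨⟨⟨⟨⟨⟨⟨hO, -⟩, -⟩, hlen⟩, hrange⟩, -⟩, -⟩, -⟩, -⟩, -⟩, -⟩ := hfix
  have hcyc : ∀ o ∈ CfsgLib.Twisted.plansF4.map Prod.fst,
      CfsgLib.Twisted.cycSet isoF4.rho (f4Twist (2 ^ m)) o = (Set.univ : Set K) := by
    intro o ho
    obtain ⟨⟨hl2, -⟩, h2'⟩ := hlen o ho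
    refine Set.eq_univ_of_forall fun x => ?_
    show Nat.rec (motive := fun _ => K) x (fun i y => f4Twist (2 ^ m) (isoF4.rho^[i] o.1) y)
      o.2.length = x
    rw [Nat.eq_of_beq_eq_true hl2]
    show f4Twist (2 ^ m) (isoF4.rho o.1) (f4Twist (2 ^ m) o.1 x) = x
    rw [f4Twist, f4Twist, ← pow_mul, ← pow_mul, ← pow_mul]
    calc x ^ _ = x ^ (2 ^ m * 2 ^ m * (max (isoF4.lam o.1) 1 * max (isoF4.lam (isoF4.rho o.1)) 1)) := by
          ring_nf
      _ = _ := by rw [Nat.eq_of_beq_eq_true h2', pow_mul, pow_mul, CfsgLib.Twisted.f4Twist_cycle hK]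
  refine CfsgLib.TwistedOrder.card_inf_invSet_pow T hO
    (fun o ho => Nat.eq_of_beq_eq_true (hlen o ho).1.2) (fun r hr => (hrange r hr.1).1.1 hr) ?_
    (fun o ho => ?_) hl (T.comm_of_acts ⟨hn, hnN⟩ hA)
  · rw [CfsgLib.Twisted.card_unipotentF4 hK, List.map_congr_left (g := fun _ => 2 ^ (2 * m + 1))
      (fun o ho => by rw [hcyc o ho, Nat.card_univ, Nat.card_eq_fintype_card, hK]),
      List.map_const', List.prod_replicate]
    congr 1
  · rw [hcyc o ho, Nat.card_univ, Nat.card_eq_fintype_card, hK,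
      Nat.eq_of_beq_eq_true (hlen o ho).1.1]
    exact ⟨dvd_rfl, (pow_one _).symm⟩

theorem prime_dvd_of_commute {r : ℕ} (hr : r.Prime) {a b : ↥(twistedF4 K (2 ^ m))}
    (ha : orderOf a = 2) (hab : Commute a b) (hrb : r ∣ orderOf b) :
    r ∣ 2 ^ (2 * m + 1) * ((2 ^ (2 * m + 1)) ^ 4 - 1) := by
  set q := 2 ^ (2 * m + 1) with hq
  by_contra hdvd
  have hq1 : 1 ≤ q := Nat.one_le_two_pow
  have hrq : ¬ r ∣ q := fun h => hdvd (h.mul_right _)
  have hr2 : ∀ k, ¬ r ∣ q ^ k := fun k h => hrq (hr.dvd_of_dvd_pow h)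
  have hr4 : ¬ r ∣ q ^ 4 - 1 := fun h => hdvd (h.mul_left _)
  have e4 : ∀ x : ℕ, 1 ≤ x → x ^ 4 - 1 = (x - 1) * (1 + x) * (1 + x ^ 2) := by
    intro x hx
    obtain ⟨y, rfl⟩ : ∃ y, x = y + 1 := ⟨x - 1, by omega⟩
    apply Nat.sub_eq_of_eq_add
    rw [Nat.add_sub_cancel]
    ring
  rw [e4 q hq1] at hr4
  have hrm : ¬ r ∣ q - 1 := fun h => hr4 ((h.mul_right _).mul_right _)
  have hrp : ¬ r ∣ 1 + q := fun h => hr4 ((h.mul_left _).mul_right _)
  have hrs : ¬ r ∣ 1 + q ^ 2 := fun h => hr4 (h.mul_left _)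
  obtain ⟨ρ, φ, hG, hJ⟩ := CfsgLib.Twisted.fixedDataF4 hK
  set G := twistedF4 K (2 ^ m)
  set P := hG.bnPair hJ
  have hJ0 : nodeSet chevF4 [0, 3] ∈ nodeSets chevF4 [[0, 3], [1, 2]] := ⟨[0, 3], by simp, rfl⟩
  have hJ1 : nodeSet chevF4 [1, 2] ∈ nodeSets chevF4 [[0, 3], [1, 2]] := ⟨[1, 2], by simp, rfl⟩
  have hW := CfsgLib.Twisted.weylF4_ok
  simp only [Bool.and_eq_true] at hW
  have hW := hW.1.1.1.1.1
  simp only [CfsgLib.Twisted.checkLongest, Bool.and_eq_true, List.all_eq_true, decide_eq_true_eq,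
    Bool.or_eq_true] at hW
  have hperm : ∀ (L : List ℕ) (l : List (Fin chevF4.rank)),
      (L, l) ∈ ([[0, 3], [1, 2]] : List (List ℕ)).zip CfsgLib.Twisted.wlF4 →
      ∀ hL : nodeSet chevF4 L ∈ nodeSets chevF4 [[0, 3], [1, 2]],
        ∃ η, Acts fullF4.cert (hG.rep hJ ⟨_, hL⟩) (wPerm fullF4.cert l) η := by
    intro L l hp hL
    obtain ⟨σ, η, hA, -, -⟩ := (hG.rep_spec hJ ⟨_, hL⟩).2.2
    exact ⟨η, CfsgLib.Twisted.perm_rep_eq fullF4 (hG.rep_spec hJ ⟨_, hL⟩)
      (fun x hx => (hW.2 _ hp).1 x hx)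
      (fun j hj => ((hW.2 _ hp).2 j (List.mem_finRange j)).resolve_left fun hn => hn hj) hA ▸ hA⟩
  obtain ⟨η0, hA0⟩ := hperm [0, 3] _ (List.mem_cons_self ..) hJ0
  obtain ⟨η1, hA1⟩ := hperm [1, 2] _ (List.mem_cons_of_mem _ (List.mem_cons_self ..)) hJ1
  change Acts fullF4.cert _ aF4 η0 at hA0
  change Acts fullF4.cert _ bF4 η1 at hA1
  set J0 : nodeSets chevF4 [[0, 3], [1, 2]] := ⟨_, hJ0⟩
  set J1 : nodeSets chevF4 [[0, 3], [1, 2]] := ⟨_, hJ1⟩
  let s : G := ⟨hG.rep hJ J0, (hG.rep_spec hJ J0).1⟩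
  let t : G := ⟨hG.rep hJ J1, (hG.rep_spec hJ J1).1⟩
  have hsS : s ∈ P.S := ⟨J0, rfl⟩
  have htS : t ∈ P.S := ⟨J1, rfl⟩
  have hS : ({s, t} : Set G) = P.S := by
    refine Set.Subset.antisymm (Set.insert_subset hsS (Set.singleton_subset_iff.2 htS)) ?_
    rintro _ ⟨⟨J, L, hL, rfl⟩, rfl⟩
    simp only [List.mem_cons, List.not_mem_nil, or_false] at hL
    rcases hL with rfl | rfl
    · exact Or.inl rfl
    · exact Or.inr rfl
  have hd := weylF4_data
  simp only [Bool.and_eq_true, decide_eq_true_eq] at hd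
  obtain ⟨⟨hw0, hca⟩, hcb⟩ := hd
  have hinv : ∀ σ : Equiv.Perm (Fin chevF4.nroots), invs σ =
      Finset.univ.filter fun r : Fin chevF4.nroots => chevF4.IsPosRoot r ∧ chevF4.IsNegRoot (σ r) :=
    fun σ => Finset.ext fun r => by simp [mem_invs]
  have hst : s ≠ t := fun e => by
    have hB0 := hA0
    rw [show hG.rep hJ J0 = hG.rep hJ J1 from congrArg Subtype.val e] at hB0
    have := hB0.perm_eq hA1
    rw [this] at hca
    omega
  have hcardB : Nat.card P.B = q ^ 12 * (q - 1) ^ 2 := by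
    have := FixedParabolic.card_B hG hJ
    rw [CfsgLib.Twisted.card_unipotentF4 hK, inf_comm G (chevF4.diagonalSubgroup K),
      CfsgLib.Twisted.card_torusF4 hK, ← hq] at this
    simpa using this
  have hrB : ¬ r ∣ Nat.card P.B := by
    rw [hcardB, hr.dvd_mul]
    exact not_or.2 ⟨hr2 12, fun h => hrm (hr.dvd_of_dvd_pow h)⟩
  have hcs := FixedParabolic.card_parabolic_rep hG hJ hsS hA0
  have hct := FixedParabolic.card_parabolic_rep hG hJ htS hA1
  rw [card_inf_invSet hK (σ := aF4) (l := CfsgLib.Twisted.wlF4.getD 0 []) rfl s.2 (hG.rep_spec hJ J0).2.1 hA0, hinv, hca, ← hq] at hcs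
  rw [card_inf_invSet hK (σ := bF4) (l := CfsgLib.Twisted.wlF4.getD 1 []) rfl t.2 (hG.rep_spec hJ J1).2.1 hA1, hinv, hcb, ← hq] at hct
  have hrs' : ¬ r ∣ Nat.card (P.parabolic {s}) := by
    rw [hcs, hr.dvd_mul]
    exact not_or.2 ⟨hrB, by simpa using hrp⟩
  have hrt' : ¬ r ∣ Nat.card (P.parabolic {t}) := by
    rw [hct, hr.dvd_mul]
    exact not_or.2 ⟨hrB, by simpa using hrs⟩
  -- an element reversing all positive roots
  obtain ⟨μ, hAab⟩ : ∃ μ, Acts fullF4.cert ((hG.rep hJ J0 * hG.rep hJ J1) ^ 4) ((aF4 * bF4) ^ 4) μ := by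
    have h1 := hA0.mul hA1
    have h2 := h1.mul h1
    have h4 := h2.mul h2
    rw [show ∀ x : GL chevF4.Idx K, x ^ 4 = x * x * (x * x) from fun x => by simp [pow_succ, mul_assoc],
      show ∀ x : Equiv.Perm (Fin chevF4.nroots), x ^ 4 = x * x * (x * x) from fun x => by simp [pow_succ, mul_assoc]]
    exact ⟨_, h4⟩
  have hH := FixedParabolic.longest_inter hG hJ
    (G.pow_mem (G.mul_mem s.2 t.2) 4)
    ((chevF4.monomialSubgroup K).pow_mem
      ((chevF4.monomialSubgroup K).mul_mem (hG.rep_spec hJ J0).2.1 (hG.rep_spec hJ J1).2.1) 4)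
    hAab hw0
  have hcardG := CfsgLib.TwistedOrder.card_twistedF4 hK (CfsgLib.Twisted.card_torusF4 hK)
  refine FixedParabolic.not_dvd_orderOf_of_commute hG hJ hH hst hS Nat.prime_two hr
    (k := 12 * (2 * m + 1)) ?_ ?_ ?_ hrs' hrt' ha hab hrb
  · intro e
    exact hrq (e ▸ hq ▸ dvd_pow_self 2 (Nat.succ_ne_zero _))
  · rw [CfsgLib.Twisted.card_unipotentF4 hK, ← pow_mul, mul_comm]
  · show ¬ 2 ^ (12 * (2 * m + 1) + 1) ∣ Nat.card G
    rw [hcardG, mul_assoc, mul_assoc, mul_assoc, ← pow_mul, mul_comm (2 * m + 1) 12, pow_succ]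
    intro h
    have h2 : 2 ∣ _ := Nat.dvd_of_mul_dvd_mul_left (pow_pos (by norm_num) _) h
    have he : ∀ k, k ≠ 0 → (2 ^ (2 * m + 1)) ^ k % 2 = 0 := fun k hk => by
      rw [← Nat.dvd_iff_mod_eq_zero]
      exact dvd_pow (dvd_pow_self 2 (by omega)) hk
    have h1 := Nat.one_le_pow 4 (2 ^ (2 * m + 1)) (by positivity)
    have h0 : 1 ≤ 2 ^ (2 * m + 1) := Nat.one_le_two_pow
    have e0 := he 1 one_ne_zero
    have e2 := he 3 three_ne_zero
    have e3 := he 4 four_ne_zero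
    have e5 := he 6 (by norm_num)
    rw [pow_one] at e0
    rw [Nat.dvd_iff_mod_eq_zero, Nat.mul_mod, Nat.mul_mod (((2 ^ (2 * m + 1)) ^ 3 + 1)),
      Nat.mul_mod ((2 ^ (2 * m + 1)) ^ 4 - 1)] at h2
    have f0 : (2 ^ (2 * m + 1) - 1) % 2 = 1 := by omega
    have f2 : ((2 ^ (2 * m + 1)) ^ 3 + 1) % 2 = 1 := by omega
    have f3 : ((2 ^ (2 * m + 1)) ^ 4 - 1) % 2 = 1 := by omega
    have f5 : ((2 ^ (2 * m + 1)) ^ 6 + 1) % 2 = 1 := by omega
    rw [f0, f2, f3, f5] at h2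
    norm_num at h2

end CfsgLib.KnownSimple.ReeFourCentralizer
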