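import Mathlib

/-!
Field-theoretic tools for an elementary proof of Lang's theorem: moving transcendental elements
by endomorphisms of an algebraically closed field, and counting generators against a
transcendence basis.
-/

set_option autoImplicit false

open Cardinal

namespace CfsgLib.KnownSimple.TrdegTools

universe u v

variable {E : Type*} [Field E] {Ω : Type u} [Field Ω] [Algebra E Ω]

/-- A transcendence basis can be sent to any algebraically independent family. -/
theorem exists_algHom_of_basis {Ω' : Type v} [Field Ω'] [Algebra E Ω'] [IsAlgClosed Ω'] {ι : Type*}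
    {x : ι → Ω} (hx : IsTranscendenceBasis E x) {w : ι → Ω'} (hw : AlgebraicIndependent E w) :
    ∃ τ : Ω →ₐ[E] Ω', ∀ i, τ (x i) = w i := by
  letI aR : Algebra (MvPolynomial ι E) Ω := (MvPolynomial.aeval x).toRingHom.toAlgebra
  letI aR' : Algebra (MvPolynomial ι E) Ω' := (MvPolynomial.aeval w).toRingHom.toAlgebra
  haveI : FaithfulSMul (MvPolynomial ι E) Ω := (faithfulSMul_iff_algebraMap_injective _ _).2 hx.1
  haveI : FaithfulSMul (MvPolynomial ι E) Ω' := (faithfulSMul_iff_algebraMap_injective _ _).2 hw
  haveI : Algebra.IsAlgebraic (MvPolynomial ι E) Ω := by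
    have halg := hx.isAlgebraic
    let e := hx.1.aevalEquiv
    letI aS : Algebra (Algebra.adjoin E (Set.range x)) (MvPolynomial ι E) :=
      e.symm.toAlgHom.toRingHom.toAlgebra
    haveI : IsScalarTower (Algebra.adjoin E (Set.range x)) (MvPolynomial ι E) Ω :=
      IsScalarTower.of_algebraMap_eq fun a => by
        show (a : Ω) = MvPolynomial.aeval x (e.symm a)
        have h : ((e (e.symm a) : Algebra.adjoin E (Set.range x)) : Ω) =
            MvPolynomial.aeval x (e.symm a) := rfl
        rw [← h, AlgEquiv.apply_symm_apply]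
    exact Algebra.IsAlgebraic.extendScalars (R := Algebra.adjoin E (Set.range x)) e.symm.injective
  let τ := IsAlgClosed.lift (M := Ω') (R := MvPolynomial ι E) (S := Ω)
  have hτ : ∀ P : MvPolynomial ι E, τ (MvPolynomial.aeval x P) = MvPolynomial.aeval w P := τ.commutes
  refine ⟨⟨τ.toRingHom, fun c => ?_⟩, fun i => ?_⟩
  · have h := hτ (MvPolynomial.C c)
    simpa using h
  · have h := hτ (MvPolynomial.X i)
    simpa using h

/-- An endomorphism sending a transcendence basis to a transcendence basis is bijective. -/
theorem bijective_of_basis {Ω' : Type v} [Field Ω'] [Algebra E Ω'] [IsAlgClosed Ω] {ι : Type*}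
    {x : ι → Ω} {w : ι → Ω'} (hw : IsTranscendenceBasis E w) (τ : Ω →ₐ[E] Ω')
    (h : ∀ i, τ (x i) = w i) : Function.Bijective τ := by
  letI aT : Algebra Ω Ω' := τ.toRingHom.toAlgebra
  haveI : IsScalarTower E Ω Ω' := IsScalarTower.of_algebraMap_eq fun c => (τ.commutes c).symm
  haveI : Algebra.IsAlgebraic Ω Ω' :=
    (hw.isAlgebraic_iff (S := Ω)).2 fun i => h i ▸ isAlgebraic_algebraMap (x i)
  haveI : Algebra.IsIntegral Ω Ω' := Algebra.IsAlgebraic.isIntegral
  exact IsAlgClosed.algebraMap_bijective_of_isIntegral (k := Ω) (K := Ω')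

/-- An element with finitely many images under the endomorphisms over `E` is algebraic over `E`. -/
theorem isAlgebraic_of_finite_images [IsAlgClosed Ω] {p : Ω}
    (h : (Set.range fun τ : Ω →ₐ[E] Ω => τ p).Finite) : IsAlgebraic E p := by
  classical
  by_contra htr
  have hs : AlgebraicIndepOn E id ({p} : Set Ω) := by
    letI : Unique ({p} : Set Ω) := Set.uniqueSingleton p
    exact algebraicIndependent_unique_type_iff.2 htr
  obtain ⟨B, hpB, hB⟩ := exists_isTranscendenceBasis_superset hs
  have hp : p ∈ B := hpB rfl
  have key : ∀ n : ℕ, ∃ τ : Ω →ₐ[E] Ω, τ p = p ^ (n + 1) := by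
    intro n
    let f : B → Polynomial E := fun b => if (b : Ω) = p then Polynomial.X ^ (n + 1) else Polynomial.X
    have hf : ∀ b, Transcendental E (f b) := by
      intro b
      simp only [f]
      split_ifs
      · exact (Polynomial.transcendental_X E).pow n.succ_pos
      · exact Polynomial.transcendental_X E
    obtain ⟨τ, hτ⟩ := exists_algHom_of_basis hB (hB.1.polynomial_aeval_of_transcendental hf)
    refine ⟨τ, ?_⟩
    have h' := hτ ⟨p, hp⟩
    simpa [f] using h'
  choose τ hτ using key
  refine (Set.infinite_range_of_injective (f := fun n : ℕ => p ^ (n + 1)) ?_).mono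
    (show Set.range (fun n : ℕ => p ^ (n + 1)) ⊆ Set.range (fun σ : Ω →ₐ[E] Ω => σ p) from
      Set.range_subset_iff.2 fun n => ⟨τ n, hτ n⟩) h
  intro a b e
  by_contra hne
  apply htr
  refine ⟨Polynomial.X ^ (a + 1) - Polynomial.X ^ (b + 1), fun h0 => hne ?_, ?_⟩
  · have h1 := congrArg Polynomial.natDegree (sub_eq_zero.1 h0)
    simp only [Polynomial.natDegree_X_pow] at h1
    omega
  · simp only [map_sub, map_pow, Polynomial.aeval_X]
    exact sub_eq_zero.2 e

/-- If elements generated by a finite family make a transcendence basis algebraic, the family is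
at least as large as the basis, and is a basis in the case of equality. -/
theorem basis_of_generates {κ ι : Type} [Finite κ] [Finite ι] {x : ι → Ω}
    (hx : IsTranscendenceBasis E x) (L : Set Ω) (z : κ → Ω)
    (hL : L ⊆ IntermediateField.adjoin E (Set.range z))
    (halg : ∀ i, IsAlgebraic (IntermediateField.adjoin E L) (x i)) :
    Nat.card ι ≤ Nat.card κ ∧ (Nat.card κ ≤ Nat.card ι → IsTranscendenceBasis E z) := by
  have hle : IntermediateField.adjoin E L ≤ IntermediateField.adjoin E (Set.range z) :=
    IntermediateField.adjoin_le_iff.2 hL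
  have halg' : ∀ i, IsAlgebraic (IntermediateField.adjoin E (Set.range z)) (x i) := by
    intro i
    letI := (IntermediateField.inclusion hle).toRingHom.toAlgebra
    haveI : IsScalarTower (IntermediateField.adjoin E L) (IntermediateField.adjoin E (Set.range z)) Ω :=
      IsScalarTower.of_algebraMap_eq fun a => rfl
    exact (halg i).extendScalars (IntermediateField.inclusion hle).injective
  haveI h1 : Algebra.IsAlgebraic (IntermediateField.adjoin E (Set.range z)) Ω :=
    (hx.isAlgebraic_iff (S := IntermediateField.adjoin E (Set.range z))).2 halg'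
  haveI : Algebra.IsAlgebraic (Algebra.adjoin E (Set.range z)) Ω :=
    IntermediateField.isAlgebraic_adjoin_iff_top.1 h1
  have htr : lift.{0} (Algebra.trdeg E Ω) = lift.{u} #ι := (hx.lift_cardinalMk_eq_trdeg).symm
  have hle' : Algebra.trdeg E Ω ≤ #(Set.range z) :=
    Algebra.IsAlgebraic.trdeg_le_cardinalMk E (Set.range z)
  have hcard : lift.{u} #ι ≤ lift.{u} #κ := by
    rw [← htr]
    exact (lift_le.2 hle').trans mk_range_le_lift
  have h2 : Nat.card ι ≤ Nat.card κ := Cardinal.toNat_le_toNat (lift_le.1 hcard) (mk_lt_aleph0)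
  refine ⟨h2, fun hκ => ?_⟩
  refine Algebra.IsAlgebraic.isTranscendenceBasis_of_lift_le_trdeg_of_finite E z ?_
  rw [htr, lift_le, ← Nat.cast_card, ← Nat.cast_card]
  exact_mod_cast hκ

end CfsgLib.KnownSimple.TrdegTools
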